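import Groth.Agent.S7783
import Groth.Agent.MonoFibre.Connected
import Groth.Agent.ASp.PropDescend
import Groth.Prelude.Def_CGrpSh2
import Groth.Prelude.Def_Biext

/-!
# Biadditive maps of abelian schemes vanish; rigidity of biextensions of abelian schemes
-/

set_option autoImplicit false
set_option backward.isDefEq.respectTransparency false
universe u

open CategoryTheory CategoryTheory.Limits MonoidalCategory CartesianMonoidalCategory MonObj AlgebraicGeometry Opposite

noncomputable section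

namespace Groth.Agent.BiAddRigidLib

variable {S : Scheme.{u}}

theorem geometricallyReduced_of_smooth {X Y : Scheme.{u}} (f : X ⟶ Y) [Smooth f] : GeometricallyReduced f := by
  refine ⟨fun K _ y P fst snd h => ?_⟩
  haveI : Smooth snd := MorphismProperty.of_isPullback h inferInstance
  exact ASp.isReduced_of_smooth snd

/-- A map from a product of abelian schemes to a separated group scheme which is trivial on both axes
is trivial. -/
theorem eq_one_of_axes (A B C : Over S) [GrpObj A] [GrpObj B] [Smooth B.hom] [IsProper B.hom]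
    (hA : ∀ s : S, ConnectedSpace ↥(A.hom.fiber s)) (hB : ∀ s : S, ConnectedSpace ↥(B.hom.fiber s))
    [GrpObj C] [IsSeparated C.hom] [LocallyOfFinitePresentation C.hom] [QuasiCompact C.hom]
    (δ : A ⊗ B ⟶ C) (h1 : lift (𝟙 A) 1 ≫ δ = 1) (h2 : lift 1 (𝟙 B) ≫ δ = 1) : δ = 1 := by
  haveI : GeometricallyReduced B.hom := geometricallyReduced_of_smooth B.hom
  haveI : GeometricallyConnected B.hom :=
    MonoFibre.geometricallyConnected_of_connected_fibres B.hom η[B].left (Over.w η[B]) hB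
  let g : (A ⊗ B).left ⟶ A.left := (fst A B).left
  have hg : IsPullback g (snd A B).left A.hom B.hom := IsPullback.of_hasPullback A.hom B.hom
  haveI : IsProper g := MorphismProperty.of_isPullback hg.flip inferInstance
  haveI : Flat g := MorphismProperty.of_isPullback hg.flip inferInstance
  haveI : LocallyOfFinitePresentation g := MorphismProperty.of_isPullback hg.flip inferInstance
  haveI : GeometricallyConnected g := MorphismProperty.of_isPullback hg.flip inferInstance
  haveI : GeometricallyReduced g := MorphismProperty.of_isPullback hg.flip inferInstance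
  have hf : δ.left ≫ C.hom = g ≫ A.hom := (Over.w δ).trans (Over.w (fst A B)).symm
  have hout : (lift (1 : B ⟶ A) (𝟙 B)).left ≫ (snd A B).left = 𝟙 B.left := by
    rw [← Over.comp_left, lift_snd]; rfl
  have hw : (lift (1 : B ⟶ A) (𝟙 B)).left ≫ g = B.hom ≫ η[A].left := by
    rw [← Over.comp_left, lift_fst]; rfl
  have hsq : IsPullback (lift (1 : B ⟶ A) (𝟙 B)).left B.hom g η[A].left := by
    refine IsPullback.of_right ?_ hw hg.flip
    rw [hout, show η[A].left ≫ A.hom = 𝟙 S from Over.w η[A]]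
    exact IsPullback.of_horiz_isIso ⟨by rw [Category.id_comp, Category.comp_id]⟩
  have main : ∀ s : S, ∃ W : A.left.Opens, (∀ a : A.left, A.hom a = s → a ∈ W) ∧
      (g ⁻¹ᵁ W).ι ≫ δ.left = (g ⁻¹ᵁ W).ι ≫ (1 : A ⊗ B ⟶ C).left := by
    intro s
    have ht : (δ.left '' (g ⁻¹' {η[A].left s})).Subsingleton := by
      have key : ∀ x ∈ g ⁻¹' {η[A].left s}, δ.left x = η[C].left s := by
        intro x hx
        obtain ⟨b, hb, hb'⟩ := Scheme.exists_preimage_of_isPullback hsq x s (by exact hx)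
        rw [← hb, ← Scheme.Hom.comp_apply, ← Over.comp_left, h2, ← hb']
        show ((toUnit B).left ≫ η[C].left) b = _
        rw [Scheme.Hom.comp_apply]
        rfl
      rintro _ ⟨x, hx, rfl⟩ _ ⟨y, hy, rfl⟩
      rw [key x hx, key y hy]
    obtain ⟨W, hWc, htW, k, hk⟩ := S7783.result A.hom C.hom g δ.left hf (η[A].left s) ht
    refine ⟨W, fun a ha => ?_, ?_⟩
    · haveI := hA s
      have hcl : IsClopen ((A.hom.fiberι s).base ⁻¹' (W : Set A.left)) :=
        ⟨hWc.preimage (A.hom.fiberι s).continuous, W.2.preimage (A.hom.fiberι s).continuous⟩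
      obtain ⟨p, hp⟩ : η[A].left s ∈ Set.range (A.hom.fiberι s) := by
        rw [Scheme.Hom.range_fiberι]
        show (η[A].left ≫ A.hom) s = s
        rw [show η[A].left ≫ A.hom = 𝟙 S from Over.w η[A]]; rfl
      obtain ⟨q, hq⟩ : a ∈ Set.range (A.hom.fiberι s) := by rw [Scheme.Hom.range_fiberι]; exact ha
      have huniv := hcl.eq_univ ⟨p, by rw [Set.mem_preimage, hp]; exact htW⟩
      rw [← hq]
      exact huniv.ge (Set.mem_univ q)
    · let e' : A.left ⟶ (A ⊗ B).left := (lift (𝟙 A) (1 : A ⟶ B)).left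
      have he' : e' ≫ g = 𝟙 _ := by
        show (lift (𝟙 A) (1 : A ⟶ B)).left ≫ (fst A B).left = _
        rw [← Over.comp_left, lift_fst]; rfl
      have hr : Set.range (W.ι ≫ e').base ⊆ Set.range (g ⁻¹ᵁ W).ι.base := by
        rintro _ ⟨w, rfl⟩
        rw [Scheme.Opens.range_ι]
        show (W.ι ≫ e' ≫ g) w ∈ (W : Set A.left)
        rw [he', Category.comp_id]
        exact w.2
      let r : (W : Scheme.{u}) ⟶ (g ⁻¹ᵁ W : Scheme.{u}) := IsOpenImmersion.lift (g ⁻¹ᵁ W).ι (W.ι ≫ e') hr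
      have hr' : r ≫ (g ⁻¹ᵁ W).ι = W.ι ≫ e' := IsOpenImmersion.lift_fac _ _ _
      have hrg : r ≫ (g ∣_ W) = 𝟙 _ := by
        rw [← cancel_mono W.ι, Category.assoc, morphismRestrict_ι, reassoc_of% hr', he', Category.comp_id,
          Category.id_comp]
      have hk' : k = W.ι ≫ (1 : A ⟶ C).left := by
        have := congrArg (r ≫ ·) hk
        simp only [reassoc_of% hr', reassoc_of% hrg] at this
        rw [← this, ← h1]
        rfl
      rw [hk, hk', morphismRestrict_ι_assoc]
      show (g ⁻¹ᵁ W).ι ≫ (fst A B).left ≫ (1 : A ⟶ C).left = _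
      rw [← Over.comp_left, MonObj.comp_one]
  choose W hW hWeq using main
  refine Over.OverMorphism.ext ?_
  have hcov : TopologicalSpace.IsOpenCover fun s : S => g ⁻¹ᵁ W s := by
    rw [TopologicalSpace.IsOpenCover, eq_top_iff]
    exact fun x _ => TopologicalSpace.Opens.mem_iSup.2 ⟨A.hom (g x), hW _ (g x) rfl⟩
  exact Scheme.Cover.hom_ext ((A ⊗ B).left.openCoverOfIsOpenCover _ hcov) _ _ hWeq

/-- A point of a commutative group scheme, as a section of its sheaf. -/
abbrev pt (G : Over S) [GrpObj G] [IsCommMonObj G] {T : Over S} (a : T ⟶ G) :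
    (CGrpSh.pts Scheme.fppfPrecoverage G).obj.obj (op T) := ULift.up (Additive.ofMul a)

/-- A section of the sheaf of points, as a point. -/
abbrev un {G : Over S} [GrpObj G] [IsCommMonObj G] {T : Over S}
    (x : (CGrpSh.pts Scheme.fppfPrecoverage G).obj.obj (op T)) : T ⟶ G := x.down.toMul

theorem un_map {G : Over S} [GrpObj G] [IsCommMonObj G] {T T' : Over S} (f : T' ⟶ T)
    (x : (CGrpSh.pts Scheme.fppfPrecoverage G).obj.obj (op T)) :
    un ((CGrpSh.pts Scheme.fppfPrecoverage G).obj.map f.op x) = f ≫ un x := rfl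

theorem eq_of_un {G : Over S} [GrpObj G] [IsCommMonObj G] {T : Over S}
    {x y : (CGrpSh.pts Scheme.fppfPrecoverage G).obj.obj (op T)} (h : un x = un y) : x = y := ULift.ext _ _ h

section Biext

variable {P Q G : Over S} [GrpObj P] [IsCommMonObj P] [GrpObj Q] [IsCommMonObj Q] [GrpObj G] [IsCommMonObj G]
  (B : Biext (QuotSh.J Scheme.fppfPrecoverage S) (CGrpSh.pts Scheme.fppfPrecoverage P)
    (CGrpSh.pts Scheme.fppfPrecoverage Q) (CGrpSh.pts Scheme.fppfPrecoverage G))
  (f : Biext.Hom (QuotSh.J Scheme.fppfPrecoverage S) B B)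

theorem exists_diff {T : Over S} (x : B.E.obj.obj (op T)) :
    ∃! g : (CGrpSh.pts Scheme.fppfPrecoverage G).obj.obj (op T), B.act T g x = f.map T x :=
  B.existsUnique_act T x (f.map T x) (f.πP_map T x).symm (f.πQ_map T x).symm

/-- The difference of an endomorphism of a biextension and the identity. -/
def diff {T : Over S} (x : B.E.obj.obj (op T)) : (CGrpSh.pts Scheme.fppfPrecoverage G).obj.obj (op T) :=
  (exists_diff B f x).exists.choose

theorem act_diff {T : Over S} (x : B.E.obj.obj (op T)) : B.act T (diff B f x) x = f.map T x :=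
  (exists_diff B f x).exists.choose_spec

theorem diff_eq {T : Over S} {x : B.E.obj.obj (op T)} {g : (CGrpSh.pts Scheme.fppfPrecoverage G).obj.obj (op T)}
    (h : B.act T g x = f.map T x) : diff B f x = g :=
  (exists_diff B f x).unique (act_diff B f x) h

theorem diff_congr {T : Over S} {x y : B.E.obj.obj (op T)} (hP : B.πP T x = B.πP T y) (hQ : B.πQ T x = B.πQ T y) :
    diff B f x = diff B f y := by
  obtain ⟨g, hg, -⟩ := B.existsUnique_act T x y hP hQ
  subst hg
  refine (diff_eq B f ?_).symm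
  rw [f.map_act, ← act_diff B f x, ← B.add_act]
  show _ = B.act T g (B.act T (diff B f x) x)
  rw [← B.add_act, add_comm]

theorem diff_map {T T' : Over S} (h : T' ⟶ T) (x : B.E.obj.obj (op T)) :
    diff B f (B.E.obj.map h.op x) = (CGrpSh.pts Scheme.fppfPrecoverage G).obj.map h.op (diff B f x) := by
  refine diff_eq B f ?_
  rw [← B.act_map, act_diff, f.map_res]

theorem add₁_congr {T : Over S} {a a' b b' : B.E.obj.obj (op T)} (ha : a = a') (hb : b = b')
    (h : B.πQ T a = B.πQ T b) (h' : B.πQ T a' = B.πQ T b') : B.add₁ T a b h = B.add₁ T a' b' h' := by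
  subst ha hb; rfl

theorem add₂_congr {T : Over S} {a a' b b' : B.E.obj.obj (op T)} (ha : a = a') (hb : b = b')
    (h : B.πP T a = B.πP T b) (h' : B.πP T a' = B.πP T b') : B.add₂ T a b h = B.add₂ T a' b' h' := by
  subst ha hb; rfl

theorem diff_eq_zero_of_πP {T : Over S} {x : B.E.obj.obj (op T)} (hx : B.πP T x = 0) : diff B f x = 0 := by
  set d := diff B f x with hd
  have h : B.πQ T x = B.πQ T x := rfl
  have e1 : diff B f (B.add₁ T x x h) = d :=
    diff_congr B f (by rw [B.πP_add₁, hx, add_zero]) (B.πQ_add₁ T x x h)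
  have h' : B.πQ T x = B.πQ T (B.act T d x) := (B.πQ_act T d x).symm
  have e2 : diff B f (B.add₁ T x x h) = d + d := by
    refine diff_eq B f ?_
    rw [f.map_add₁, add₁_congr B (act_diff B f x).symm (act_diff B f x).symm _ ((B.πQ_act T d x).trans h'),
      B.add₁_act T d x (B.act T d x) h', B.add₁_comm T x (B.act T d x) h', B.add₁_act T d x x h, ← B.add_act]
  exact left_eq_add.1 (e1.symm.trans e2)

theorem diff_eq_zero_of_πQ {T : Over S} {x : B.E.obj.obj (op T)} (hx : B.πQ T x = 0) : diff B f x = 0 := by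
  set d := diff B f x with hd
  have h : B.πP T x = B.πP T x := rfl
  have e1 : diff B f (B.add₂ T x x h) = d :=
    diff_congr B f (B.πP_add₂ T x x h) (by rw [B.πQ_add₂, hx, add_zero])
  have h' : B.πP T x = B.πP T (B.act T d x) := (B.πP_act T d x).symm
  have e2 : diff B f (B.add₂ T x x h) = d + d := by
    refine diff_eq B f ?_
    rw [f.map_add₂, add₂_congr B (act_diff B f x).symm (act_diff B f x).symm _ ((B.πP_act T d x).trans h'),
      B.add₂_act T d x (B.act T d x) h', B.add₂_comm T x (B.act T d x) h', B.add₂_act T d x x h, ← B.add_act]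
  exact left_eq_add.1 (e1.symm.trans e2)

theorem exists_universal : ∃ δ : P ⊗ Q ⟶ G,
    (∀ (T : Over S) (x : B.E.obj.obj (op T)), un (diff B f x) = lift (un (B.πP T x)) (un (B.πQ T x)) ≫ δ) ∧
    lift (𝟙 P) 1 ≫ δ = 1 ∧ lift 1 (𝟙 Q) ≫ δ = 1 := by
  let J := QuotSh.J Scheme.fppfPrecoverage S
  have hsh : Presieve.IsSheaf J (yoneda.obj G) :=
    GrothendieckTopology.Subcanonical.isSheaf_of_isRepresentable (J := J) (yoneda.obj G)
  obtain ⟨R, hR, hx⟩ := B.locallySurjective (P ⊗ Q) (pt P (fst P Q)) (pt Q (snd P Q))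
  choose x hxP hxQ using hx
  let fam : Presieve.FamilyOfElements (yoneda.obj G) (R : Presieve (P ⊗ Q)) := fun T v hv => un (diff B f (x v hv))
  have hfam : fam.Compatible := by
    intro T₁ T₂ Z g₁ g₂ v₁ v₂ hv₁ hv₂ h
    show g₁ ≫ un (diff B f (x v₁ hv₁)) = g₂ ≫ un (diff B f (x v₂ hv₂))
    rw [← un_map, ← un_map, ← diff_map, ← diff_map]
    refine congrArg un (diff_congr B f ?_ ?_)
    · rw [B.πP_map, B.πP_map, hxP, hxP]
      refine eq_of_un ?_
      show g₁ ≫ v₁ ≫ fst P Q = g₂ ≫ v₂ ≫ fst P Q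
      rw [reassoc_of% h]
    · rw [B.πQ_map, B.πQ_map, hxQ, hxQ]
      refine eq_of_un ?_
      show g₁ ≫ v₁ ≫ snd P Q = g₂ ≫ v₂ ≫ snd P Q
      rw [reassoc_of% h]
  let δ : P ⊗ Q ⟶ G := (hsh R hR).amalgamate fam hfam
  have hδ : ∀ {T : Over S} (v : T ⟶ P ⊗ Q) (hv : R v), v ≫ δ = un (diff B f (x v hv)) :=
    fun v hv => (hsh R hR).valid_glue hfam v hv
  have sep : ∀ {T : Over S} (w : T ⟶ P ⊗ Q) (a : T ⟶ G),
      (∀ {T' : Over S} (v : T' ⟶ T) (hv : R (v ≫ w)), un (diff B f (x (v ≫ w) hv)) = v ≫ a) → w ≫ δ = a := by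
    intro T w a h
    refine (hsh _ (J.pullback_stable w hR)).isSeparatedFor.ext fun T' v hv => ?_
    show v ≫ w ≫ δ = v ≫ a
    rw [← Category.assoc, hδ (v ≫ w) hv]
    exact h v hv
  refine ⟨δ, fun T y => (sep _ _ fun {T'} v hv => ?_).symm, sep _ _ fun {T'} v hv => ?_, sep _ _ fun {T'} v hv => ?_⟩
  · rw [← un_map, ← diff_map]
    refine congrArg un (diff_congr B f ?_ ?_)
    · rw [hxP, B.πP_map]
      refine eq_of_un ?_
      show (v ≫ lift _ _) ≫ fst P Q = v ≫ un (B.πP T y)
      rw [Category.assoc, lift_fst]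
    · rw [hxQ, B.πQ_map]
      refine eq_of_un ?_
      show (v ≫ lift _ _) ≫ snd P Q = v ≫ un (B.πQ T y)
      rw [Category.assoc, lift_snd]
  · rw [diff_eq_zero_of_πQ B f (by
      rw [hxQ]
      refine eq_of_un ?_
      show (v ≫ lift _ _) ≫ snd P Q = (1 : T' ⟶ Q)
      rw [Category.assoc, lift_snd, MonObj.comp_one]), MonObj.comp_one]
    rfl
  · rw [diff_eq_zero_of_πP B f (by
      rw [hxP]
      refine eq_of_un ?_
      show (v ≫ lift _ _) ≫ fst P Q = (1 : T' ⟶ P)
      rw [Category.assoc, lift_fst, MonObj.comp_one]), MonObj.comp_one]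
    rfl

theorem biext_rigid [Smooth Q.hom] [IsProper Q.hom]
    (hP : ∀ s : S, ConnectedSpace ↥(P.hom.fiber s)) (hQ : ∀ s : S, ConnectedSpace ↥(Q.hom.fiber s))
    [IsSeparated G.hom] [LocallyOfFinitePresentation G.hom] [QuasiCompact G.hom] :
    f = Biext.HomOver.id (QuotSh.J Scheme.fppfPrecoverage S) B := by
  obtain ⟨δ, hδ, h1, h2⟩ := exists_universal B f
  have h0 := eq_one_of_axes P Q G hP hQ δ h1 h2
  refine Biext.HomOver.ext' _ fun T y => ?_
  have hd : diff B f y = 0 := eq_of_un (by rw [hδ, h0, MonObj.comp_one]; rfl)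
  rw [← act_diff B f y, hd, B.zero_act]
  rfl

end Biext

/-- Biadditive maps `A × B → C`, as maps into the internal Hom, vanish. -/
theorem hom_homSh_eq_zero (A B C : Over S)
    [GrpObj A] [IsCommMonObj A] [GrpObj B] [IsCommMonObj B] [Smooth B.hom] [IsProper B.hom]
    (hA : ∀ s : S, ConnectedSpace ↥(A.hom.fiber s)) (hB : ∀ s : S, ConnectedSpace ↥(B.hom.fiber s))
    [GrpObj C] [IsCommMonObj C] [IsSeparated C.hom] [LocallyOfFinitePresentation C.hom] [QuasiCompact C.hom]
    (φ : (CGrpSh.pts Scheme.fppfPrecoverage A) ⟶ HomSh.homSh (QuotSh.J Scheme.fppfPrecoverage S)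
      (CGrpSh.pts Scheme.fppfPrecoverage B) (CGrpSh.pts Scheme.fppfPrecoverage C)) : φ = 0 := by
  let ev : ∀ {T : Over S} (a : T ⟶ A) (W : Over T) (b : W.left ⟶ B), W.left ⟶ C := fun {T} a W b =>
    un ((φ.hom.app (op T) (pt A a)).hom.app (op W) (pt B b))
  have hnat : ∀ {T T' : Over S} (h : T' ⟶ T) (a : T ⟶ A) (W : Over T') (b : W.left ⟶ B),
      ev (h ≫ a) W b = ev a ((Over.map h).obj W) b := fun h a W b =>
    congr(un (($(NatTrans.naturality_apply φ.hom h.op (pt A a))).hom.app (op W) (pt B b)))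
  have hnat2 : ∀ {T : Over S} (a : T ⟶ A) {W W' : Over T} (k : W' ⟶ W) (b : W.left ⟶ B),
      ev a W' (k.left ≫ b) = k.left ≫ ev a W b := fun {T} a {W W'} k b =>
    congrArg un (NatTrans.naturality_apply (φ.hom.app (op T) (pt A a)).hom k.op (pt B b))
  let δ : A ⊗ B ⟶ C := ev (𝟙 A) (Over.mk (fst A B)) (snd A B)
  have key : ∀ {T : Over S} (a : T ⟶ A) (W : Over T) (b : W.left ⟶ B), ev a W b = lift (W.hom ≫ a) b ≫ δ := by
    intro T a W b
    let k : (Over.map a).obj W ⟶ Over.mk (fst A B) := Over.homMk (lift (W.hom ≫ a) b) (lift_fst _ _)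
    refine Eq.trans ?_ (hnat2 (𝟙 A) k (snd A B))
    have hb : k.left ≫ snd A B = b := lift_snd _ _
    rw [hb, ← hnat a (𝟙 A) W b, Category.comp_id]
  have h1 : lift (𝟙 A) 1 ≫ δ = 1 := by
    have := key (𝟙 A) (Over.mk (𝟙 A)) (1 : A ⟶ B)
    rw [show (Over.mk (𝟙 A)).hom ≫ 𝟙 A = 𝟙 A from Category.comp_id _] at this
    refine this.symm.trans ?_
    exact congrArg un (map_zero ((φ.hom.app (op A) (pt A (𝟙 A))).hom.app (op (Over.mk (𝟙 A)))).hom)
  have h2 : lift 1 (𝟙 B) ≫ δ = 1 := by
    have := key (1 : B ⟶ A) (Over.mk (𝟙 B)) (𝟙 B)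
    rw [show (Over.mk (𝟙 B)).hom ≫ (1 : B ⟶ A) = 1 from Category.id_comp _] at this
    refine this.symm.trans ?_
    exact congr(un (($(map_zero (φ.hom.app (op B)).hom)).hom.app (op (Over.mk (𝟙 B))) (pt B (𝟙 B))))
  have h0 := eq_one_of_axes A B C hA hB δ h1 h2
  refine Sheaf.hom_ext (NatTrans.ext (funext fun T => AddCommGrpCat.ext fun a => ?_))
  refine Sheaf.hom_ext (NatTrans.ext (funext fun W => AddCommGrpCat.ext fun b => eq_of_un ?_))
  refine (key (T := T.unop) (un a) W.unop (un b)).trans ?_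
  rw [h0, MonObj.comp_one]
  rfl

end Groth.Agent.BiAddRigidLib
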